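import Cfsg.Agent.PGroups.Basic
import Cfsg.Agent.Coprime.Centralize
import Mathlib.GroupTheory.Abelianization.Defs

/-!
A `p`-subgroup `P` whose derived subgroup has index `p ^ 2`.
-/

set_option autoImplicit false
set_option linter.unusedSectionVars false

namespace Cfsg.Agent.H25.SmallAbelianization

open Subgroup
open scoped commutatorElement

variable {G : Type*} [Group G] [Finite G] {p : ℕ} [hp : Fact p.Prime]

/-- A subgroup supplementing the derived subgroup of a `p`-group is everything. -/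
theorem eq_of_sup_derived {P X : Subgroup G} (hP : IsPGroup p P) (hX : X ≤ P)
    (h : X ⊔ ⁅P, P⁆ = P) : X = P := by
  have hD : ⁅P, P⁆ ≤ P := commutator_le_self P
  have h1 : X.subgroupOf P ⊔ frattini P = ⊤ := by
    have e : (X ⊔ ⁅P, P⁆).subgroupOf P = ⊤ := subgroupOf_eq_top.mpr h.ge
    rw [subgroupOf_sup hX hD] at e
    rw [eq_top_iff, ← e]
    refine sup_le_sup_left ?_ _
    intro d hd
    refine PGroups.commutator_le_frattini hP ?_
    rw [mem_subgroupOf, ← map_subtype_commutator] at hd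
    obtain ⟨e, he, hed⟩ := hd
    exact (Subtype.ext hed : e = d) ▸ he
  have h2 := frattini_nongenerating h1
  exact le_antisymm hX fun x hx => mem_subgroupOf.mp (h2 ▸ mem_top (⟨x, hx⟩ : P))

/-- A cyclic `p`-subgroup is recognised by its derived subgroup. -/
theorem derived_eq_bot_of_relIndex_le {P : Subgroup G} (hP : IsPGroup p P)
    (h : ⁅P, P⁆.relIndex P ≤ p) : ⁅P, P⁆ = ⊥ := by
  by_cases he : ∃ c ∈ P, c ∉ ⁅P, P⁆
  · obtain ⟨c, hc, hcD⟩ := he
    have hle : zpowers c ⊔ ⁅P, P⁆ ≤ P := sup_le (zpowers_le.mpr hc) (commutator_le_self P)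
    have heq : zpowers c ⊔ ⁅P, P⁆ = P := by
      refine eq_of_le_of_card_ge hle ?_
      have hlt : ⁅P, P⁆ < zpowers c ⊔ ⁅P, P⁆ :=
        lt_of_le_of_ne le_sup_right fun e => hcD (e.symm ▸ mem_sup_left (mem_zpowers c))
      have h1 := relIndex_mul_relIndex _ _ _ hlt.le hle
      have h2 : ⁅P, P⁆.relIndex (zpowers c ⊔ ⁅P, P⁆) ≠ 1 := fun e => hlt.not_ge (relIndex_eq_one.mp e)
      obtain ⟨j, hj⟩ := IsPGroup.iff_card.mp (hP.to_le hle)
      have h3 : ⁅P, P⁆.relIndex (zpowers c ⊔ ⁅P, P⁆) ∣ p ^ j := hj ▸ relIndex_dvd_card _ _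
      obtain ⟨i, -, hi⟩ := (Nat.dvd_prime_pow hp.out).mp h3
      rw [hi] at h1 h2
      have hi0 : 0 < i := Nat.pos_of_ne_zero fun e => h2 (by rw [e, pow_zero])
      have h4 : p ≤ p ^ i := Nat.le_self_pow hi0.ne' p
      have h5 : (zpowers c ⊔ ⁅P, P⁆).relIndex P = 1 := by
        have hne : (zpowers c ⊔ ⁅P, P⁆).relIndex P ≠ 0 := Subgroup.index_ne_zero_of_finite (H := _)
        have := hp.out.pos
        have := Nat.pos_of_ne_zero hne
        nlinarith
      exact Subgroup.card_le_of_le (relIndex_eq_one.mp h5)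
    have := eq_of_sup_derived hP (zpowers_le.mpr hc) heq
    rw [← this, commutator_eq_bot_iff_le_centralizer]
    intro x hx
    rw [mem_centralizer_iff]
    intro y hy
    obtain ⟨i, rfl⟩ := mem_zpowers_iff.mp hx
    obtain ⟨j, rfl⟩ := mem_zpowers_iff.mp (SetLike.mem_coe.mp hy)
    exact (Commute.zpow_zpow_self c j i).eq
  · push Not at he
    have := eq_of_sup_derived hP (X := ⊥) bot_le (by rw [bot_sup_eq]; exact le_antisymm (commutator_le_self P) he)
    rw [← this, commutator_bot_left]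

/-- The class of `y` in `P` lies in `y P'`: lower bound for the centralizer. -/
theorem index_centralizer_le (P : Subgroup G) {y : G} (hy : y ∈ P) :
    (P ⊓ centralizer {y}).relIndex P ≤ Nat.card ↥⁅P, P⁆ := by
  let f : P ⧸ (P ⊓ centralizer {y}).subgroupOf P → ↥⁅P, P⁆ :=
    Quotient.lift (fun g : P => (⟨⁅(g : G), y⁆, commutator_mem_commutator g.2 hy⟩ : ↥⁅P, P⁆))
      (by
        intro g h hgh
        change QuotientGroup.leftRel _ g h at hgh
        have hgh' : ((g⁻¹ * h : P) : G) ∈ P ⊓ centralizer {y} :=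
          mem_subgroupOf.mp (QuotientGroup.leftRel_apply.mp hgh)
        have hc : ((g : G)⁻¹ * h) * y = y * ((g : G)⁻¹ * h) := by
          have := mem_centralizer_singleton_iff.mp hgh'.2
          simpa using this
        refine Subtype.ext ?_
        show ⁅(g : G), y⁆ = ⁅(h : G), y⁆
        simp only [commutatorElement_def]
        calc (g : G) * y * (g : G)⁻¹ * y⁻¹
            = (g : G) * (y * ((g : G)⁻¹ * h)) * (h : G)⁻¹ * y⁻¹ := by group
          _ = (g : G) * (((g : G)⁻¹ * h) * y) * (h : G)⁻¹ * y⁻¹ := by rw [hc]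
          _ = _ := by group)
  refine Nat.card_le_card_of_injective f ?_
  intro a b
  refine Quotient.inductionOn₂ a b fun g h e => ?_
  have e' : ⁅(g : G), y⁆ = ⁅(h : G), y⁆ := congrArg Subtype.val e
  simp only [commutatorElement_def] at e'
  have e2 : (g : G) * y * (g : G)⁻¹ = (h : G) * y * (h : G)⁻¹ := mul_right_cancel e'
  refine Quotient.sound (QuotientGroup.leftRel_apply.mpr ?_)
  refine mem_inf.mpr ⟨(g⁻¹ * h : P).2, mem_centralizer_singleton_iff.mpr ?_⟩
  show (g : G)⁻¹ * h * y = y * ((g : G)⁻¹ * h)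
  calc (g : G)⁻¹ * h * y = (g : G)⁻¹ * ((h : G) * y * (h : G)⁻¹) * h := by group
    _ = (g : G)⁻¹ * ((g : G) * y * (g : G)⁻¹) * h := by rw [e2]
    _ = _ := by group

theorem card_le_centralizer_mul (P : Subgroup G) {y : G} (hy : y ∈ P) :
    Nat.card P ≤ Nat.card ↥(P ⊓ centralizer {y}) * Nat.card ↥⁅P, P⁆ := by
  rw [← ((P ⊓ centralizer {y}).subgroupOf P).card_mul_index,
    Nat.card_congr (subgroupOfEquivOfLe inf_le_left).toEquiv]
  exact Nat.mul_le_mul_left _ (index_centralizer_le P hy)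

variable {P : Subgroup G} (hP : IsPGroup p P) (hidx : ⁅P, P⁆.relIndex P = p ^ 2)
include hP hidx

/-- A normal subgroup outside `P'` has a cyclic supplement. -/
theorem exists_supplement {X : Subgroup G} (hX : X ≤ P) (hXD : ¬ X ≤ ⁅P, P⁆) :
    ∃ c ∈ P, X ⊔ zpowers c = P := by
  by_cases hfull : X = P
  · exact ⟨1, one_mem _, by rw [zpowers_one_eq_bot, sup_bot_eq, hfull]⟩
  set Y := X ⊔ ⁅P, P⁆ with hY
  have hYP : Y ≤ P := sup_le hX (commutator_le_self P)
  have hne : Y ≠ P := fun e => hfull (eq_of_sup_derived hP hX e)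
  obtain ⟨c, hc, hcY⟩ := SetLike.exists_of_lt (lt_of_le_of_ne hYP hne)
  refine ⟨c, hc, ?_⟩
  have hle : X ⊔ zpowers c ≤ P := sup_le hX (zpowers_le.mpr hc)
  refine eq_of_sup_derived hP hle ?_
  set Z := X ⊔ zpowers c ⊔ ⁅P, P⁆ with hZ
  have hZP : Z ≤ P := sup_le hle (commutator_le_self P)
  have hYZ : Y ≤ Z := sup_le (le_sup_left.trans le_sup_left) le_sup_right
  have h1 := relIndex_mul_relIndex _ _ _ (le_sup_right : ⁅P, P⁆ ≤ Y) (hYZ.trans hZP)
  have h2 := relIndex_mul_relIndex _ _ _ hYZ hZP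
  rw [hidx, ← h2] at h1
  have ha : ⁅P, P⁆.relIndex Y ≠ 1 := fun e => hXD (le_sup_left.trans (relIndex_eq_one.mp e))
  have hb : Y.relIndex Z ≠ 1 := fun e =>
    hcY (relIndex_eq_one.mp e (mem_sup_left (mem_sup_right (mem_zpowers c))))
  obtain ⟨i, -, hi⟩ := (Nat.dvd_prime_pow hp.out).mp (Dvd.intro _ h1)
  obtain ⟨j, -, hj⟩ := (Nat.dvd_prime_pow hp.out).mp
    ((Dvd.intro _ rfl : Y.relIndex Z ∣ Y.relIndex Z * Z.relIndex P).trans (Dvd.intro_left _ h1))
  have hi0 : 0 < i := Nat.pos_of_ne_zero fun e => ha (by rw [hi, e, pow_zero])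
  have hj0 : 0 < j := Nat.pos_of_ne_zero fun e => hb (by rw [hj, e, pow_zero])
  rw [hi, hj] at h1
  have h3 : Z.relIndex P = 1 := by
    have hne : Z.relIndex P ≠ 0 := Subgroup.index_ne_zero_of_finite (H := _)
    have := Nat.le_self_pow hi0.ne' p
    have := Nat.le_self_pow hj0.ne' p
    have := hp.out.pos
    have := Nat.pos_of_ne_zero hne
    have h4 : p * p ≤ p ^ i * p ^ j := Nat.mul_le_mul ‹p ≤ p ^ i› ‹p ≤ p ^ j›
    nlinarith
  exact le_antisymm hZP (relIndex_eq_one.mp h3)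

/-- `P' ≤ [X, P]` for a normal `X` outside `P'`. -/
theorem derived_le {X : Subgroup G} (hX : X ≤ P) (hXn : P ≤ normalizer (X : Set G)) (hXD : ¬ X ≤ ⁅P, P⁆) :
    ⁅P, P⁆ ≤ ⁅X, P⁆ := by
  obtain ⟨c, hc, hsup⟩ := exists_supplement hP hidx hX hXD
  have hcn : zpowers c ≤ normalizer (X : Set G) := zpowers_le.mpr (hXn hc)
  have hN : P ≤ normalizer ((⁅X, P⁆ : Subgroup G) : Set G) := normalizer_commutator_ge_right X P
  have hconj : ∀ {g x : G}, g ∈ P → x ∈ ⁅X, P⁆ → g * x * g⁻¹ ∈ ⁅X, P⁆ := fun {g x} hg hx =>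
    (mem_normalizer_iff.mp (hN hg) x).mp hx
  rw [commutator_le]
  intro a ha b hb
  rw [← hsup] at ha hb
  obtain ⟨x, hx, u, hu, rfl⟩ := (Coprime.mem_sup_iff hcn).mp ha
  obtain ⟨y, hy, v, hv, rfl⟩ := (Coprime.mem_sup_iff hcn).mp hb
  have huP : u ∈ P := zpowers_le.mpr hc hu
  have hvP : v ∈ P := zpowers_le.mpr hc hv
  rw [commutatorElement_mul_left_eq_conj_mul]
  refine mul_mem (hconj (hX hx) ?_) (commutator_mem_commutator hx (mul_mem (hX hy) hvP))
  have e : ⁅u, y * v⁆ = ⁅y, u⁆⁻¹ * (y * ⁅u, v⁆ * y⁻¹) := by simp only [commutatorElement_def]; group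
  have huv : ⁅u, v⁆ = 1 := by
    obtain ⟨i, rfl⟩ := mem_zpowers_iff.mp hu
    obtain ⟨j, rfl⟩ := mem_zpowers_iff.mp hv
    exact commutatorElement_eq_one_iff_commute.mpr (Commute.zpow_zpow_self c i j)
  rw [e, huv, mul_one, mul_inv_cancel, mul_one]
  exact inv_mem (commutator_mem_commutator hy huP)

/-- Two commuting normal subgroups with trivial meet, neither inside `P'`. -/
theorem derived_eq_bot_of_two {X Y : Subgroup G} (hX : X ≤ P) (hY : Y ≤ P)
    (hXn : P ≤ normalizer (X : Set G)) (hYn : P ≤ normalizer (Y : Set G)) (hXY : X ⊓ Y = ⊥)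
    (hXD : ¬ X ≤ ⁅P, P⁆) (hYD : ¬ Y ≤ ⁅P, P⁆) : ⁅P, P⁆ = ⊥ := by
  rw [eq_bot_iff, ← hXY]
  exact le_inf ((derived_le hP hidx hX hXn hXD).trans (Coprime.commutator_le_left_of_normalizer hXn))
    ((derived_le hP hidx hY hYn hYD).trans (Coprime.commutator_le_left_of_normalizer hYn))

end Cfsg.Agent.H25.SmallAbelianization
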