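import Cfsg.Agent.H25.SmallAbelianization.PGroup
import Cfsg.Agent.H96.MinimalFactors
import Cfsg.Agent.Thompson.ZJ
import Cfsg.Agent.Hall.MinimalNormal
import Cfsg.Agent.S0081

/-!
The Sylow subgroup of a minimal normal subgroup is abelian of index `p` in `P`
when `P / P'` has order `p ^ 2` and the group is not almost simple.
-/

set_option autoImplicit false
set_option linter.unusedSectionVars false

namespace Cfsg.Agent.H25.SmallAbelianization

open Subgroup
open scoped commutatorElement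

variable {G : Type*} [Group G] [Finite G] {p : ℕ} [hp : Fact p.Prime]

section Projection

variable {N : Subgroup G} (F : H96.SimpleFactors N) {T : Subgroup G} (hT : T ∈ F.s)

include hT in
theorem center_trivial {t : G} (ht : t ∈ T) (htc : t ∈ centralizer (T : Set G)) : t = 1 := by
  haveI := F.simple T hT
  rcases IsSimpleGroup.eq_bot_or_eq_top_of_normal (center T) inferInstance with h | h
  · have hm : (⟨t, ht⟩ : T) ∈ center T :=
      mem_center_iff.mpr fun y => Subtype.ext (mem_centralizer_iff.mp htc _ y.2)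
    rw [h, mem_bot] at hm
    exact congrArg Subtype.val hm
  · exact absurd ⟨⟨fun a b => mem_center_iff.mp (h ▸ mem_top b) a⟩⟩ (F.nonabelian T hT)

include hT in
theorem le_normalizer_factor : N ≤ normalizer (T : Set G) := by
  classical
  refine le_trans F.sup_eq.ge (Finset.sup_le fun V hV => ?_)
  by_cases hVT : V = T
  · rw [hVT]; exact le_normalizer
  · exact (F.commute T hT V hV (Ne.symm hVT)).trans (centralizer_le_normalizer _)

include hT in
theorem exists_component {m : G} (hm : m ∈ N) : ∃ t ∈ T, t⁻¹ * m ∈ centralizer (T : Set G) := by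
  classical
  have h : N ≤ T ⊔ centralizer (T : Set G) := F.sup_eq.ge.trans (Finset.sup_le fun V hV => by
    by_cases hVT : V = T
    · rw [hVT]; exact le_sup_left
    · exact (F.commute T hT V hV (Ne.symm hVT)).trans le_sup_right)
  obtain ⟨t, ht, c, hc, rfl⟩ := (Coprime.mem_sup_iff (centralizer_le_normalizer _)).mp (h hm)
  exact ⟨t, ht, by rwa [inv_mul_cancel_left]⟩

include hT in
theorem component_unique {m t u : G} (ht : t ∈ T) (hu : u ∈ T) (h1 : t⁻¹ * m ∈ centralizer (T : Set G))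
    (h2 : u⁻¹ * m ∈ centralizer (T : Set G)) : t = u := by
  have h : t⁻¹ * u ∈ centralizer (T : Set G) := by
    have := mul_mem h1 (inv_mem h2)
    rwa [show t⁻¹ * m * (u⁻¹ * m)⁻¹ = t⁻¹ * u by group] at this
  exact inv_mul_eq_one.mp (center_trivial F hT (mul_mem (inv_mem ht) hu) h)

/-- The component of an element of `N` in the factor `T`. -/
noncomputable def comp : N →* T :=
  MonoidHom.mk' (fun m => ⟨(exists_component F hT m.2).choose, (exists_component F hT m.2).choose_spec.1⟩)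
    (fun a b => Subtype.ext (by
      have ha := (exists_component F hT a.2).choose_spec
      have hb := (exists_component F hT b.2).choose_spec
      have hab := (exists_component F hT (a * b).2).choose_spec
      refine component_unique F hT hab.1 (mul_mem ha.1 hb.1) hab.2 ?_
      set x := (exists_component F hT a.2).choose
      set y := (exists_component F hT b.2).choose
      show (x * y)⁻¹ * ((a : G) * b) ∈ centralizer (T : Set G)
      have hc := ha.2
      have e : (x * y)⁻¹ * ((a : G) * b) = (y⁻¹ * (x⁻¹ * a) * y) * (y⁻¹ * b) := by group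
      rw [e, show y⁻¹ * (x⁻¹ * a) * y = x⁻¹ * a by
        rw [mem_centralizer_iff.mp hc y⁻¹ (inv_mem hb.1), inv_mul_cancel_right]]
      exact mul_mem hc hb.2))

theorem comp_spec (m : N) : (comp F hT m : G)⁻¹ * m ∈ centralizer (T : Set G) :=
  (exists_component F hT m.2).choose_spec.2

theorem comp_of_mem {m : N} (hm : (m : G) ∈ T) : (comp F hT m : G) = m :=
  component_unique F hT (comp F hT m).2 hm (comp_spec F hT m) (by rw [inv_mul_cancel]; exact one_mem _)

theorem comp_of_commute {m : N} (hm : (m : G) ∈ centralizer (T : Set G)) : comp F hT m = 1 :=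
  Subtype.ext (component_unique F hT (comp F hT m).2 (one_mem _) (comp_spec F hT m)
    (by rw [OneMemClass.coe_one, inv_one, one_mul]; exact hm))

theorem comp_conj (m : N) {t : G} (ht : t ∈ T) :
    (m : G) * t * (m : G)⁻¹ = comp F hT m * t * (comp F hT m : G)⁻¹ := by
  set x := (comp F hT m : G)
  calc (m : G) * t * (m : G)⁻¹ = x * ((x⁻¹ * m) * t) * (x⁻¹ * m)⁻¹ * x⁻¹ := by group
    _ = x * (t * (x⁻¹ * m)) * (x⁻¹ * m)⁻¹ * x⁻¹ := by
      rw [mem_centralizer_iff.mp (comp_spec F hT m) t ht]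
    _ = _ := by group

end Projection

variable {N : Subgroup G} [N.Normal] (F : H96.SimpleFactors N) (P : Sylow p G)

/-- The component of an element of `P ⊓ N` lies in `P`. -/
theorem comp_mem_sylow {T : Subgroup G} (hT : T ∈ F.s) {m : N} (hm : (m : G) ∈ (P : Subgroup G)) :
    (comp F hT m : G) ∈ (P : Subgroup G) := by
  obtain ⟨Q, hQ⟩ := Thompson.exists_sylow_inf_normal P N
  set f : N →* N := (Subgroup.inclusion (F.le T hT)).comp (comp F hT) with hf
  have hmem : ∀ {x : N}, x ∈ (Q : Subgroup N) ↔ (x : G) ∈ (P : Subgroup G) := fun {x} => by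
    constructor
    · intro h
      have : (x : G) ∈ (Q : Subgroup N).map N.subtype := mem_map_of_mem _ h
      rw [hQ] at this
      exact this.1
    · intro h
      have : (x : G) ∈ (Q : Subgroup N).map N.subtype := by rw [hQ]; exact ⟨h, x.2⟩
      obtain ⟨y, hy, hyx⟩ := this
      exact (Subtype.ext hyx : y = x) ▸ hy
  set I := (Q : Subgroup N).map f
  have hnorm : (Q : Subgroup N) ≤ normalizer (I : Set N) := by
    have key : ∀ q ∈ (Q : Subgroup N), ∀ z ∈ I, q * z * q⁻¹ ∈ I := by
      rintro q hq _ ⟨x, hx, rfl⟩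
      refine ⟨q * x * q⁻¹, mul_mem (mul_mem hq hx) (inv_mem hq), Subtype.ext ?_⟩
      show ((comp F hT (q * x * q⁻¹) : T) : G) = (q : G) * (comp F hT x : G) * (q : G)⁻¹
      rw [map_mul, map_mul, map_inv, comp_conj F hT q (comp F hT x).2]
      rfl
    exact le_normalizer_iff.mpr key
  have hP : IsPGroup p ↥((Q : Subgroup N) ⊔ I) := Q.isPGroup'.to_sup_of_normal_right' (Q.isPGroup'.map f) hnorm
  have heq := Q.is_maximal' hP le_sup_left
  have : f m ∈ (Q : Subgroup N) := heq ▸ mem_sup_right (mem_map_of_mem f (hmem.mpr hm))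
  exact hmem.mp this

theorem inf_ne_bot_of_commute_ne {T : Subgroup G} (hT : T ∈ F.s) :
    ((P : Subgroup G) ⊓ T) ⊓ ((P : Subgroup G) ⊓ N ⊓ centralizer (T : Set G)) = ⊥ := by
  rw [eq_bot_iff]
  intro x hx
  exact mem_bot.mpr (center_trivial F hT hx.1.2 hx.2.2)

theorem inf_eq_sup {T : Subgroup G} (hT : T ∈ F.s) :
    (P : Subgroup G) ⊓ N = ((P : Subgroup G) ⊓ T) ⊔ ((P : Subgroup G) ⊓ N ⊓ centralizer (T : Set G)) := by
  refine le_antisymm (fun x hx => ?_) (sup_le (inf_le_inf_left _ (F.le T hT)) inf_le_left)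
  have hc := comp_mem_sylow F P hT (m := ⟨x, hx.2⟩) hx.1
  set t := (comp F hT ⟨x, hx.2⟩ : G) with ht
  have hsplit : x = t * (t⁻¹ * x) := by group
  rw [hsplit]
  exact mul_mem_sup ⟨hc, (comp F hT _).2⟩
    (mem_inf.mpr ⟨mem_inf.mpr ⟨mul_mem (inv_mem hc) hx.1, mul_mem (inv_mem (F.le T hT (comp F hT _).2)) hx.2⟩,
      comp_spec F hT ⟨x, hx.2⟩⟩)

/-- Some other factor meets `P`. -/
theorem exists_other (hcore : ¬ ∃ S : Subgroup G, S.Normal ∧ IsSimpleGroup S ∧ ¬ IsMulCommutative S ∧
      centralizer (S : Set G) = ⊥)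
    (hmin : ∀ M : Subgroup G, M.Normal → M ≤ N → M = ⊥ ∨ M = N) (hC : centralizer (N : Set G) = ⊥)
    {T : Subgroup G} (hT : T ∈ F.s) (hQ : (P : Subgroup G) ⊓ T ≠ ⊥) :
    ∃ U ∈ F.s, U ≠ T ∧ (P : Subgroup G) ⊓ U ≠ ⊥ := by
  by_contra hno
  push Not at hno
  have hTne : T ≠ ⊥ := fun h => hQ (by rw [h, inf_bot_eq])
  obtain ⟨x, hxQ, hx1⟩ := (Subgroup.bot_or_exists_ne_one _).resolve_left hQ
  have hconj : ∀ g : G, T.map (MulAut.conj g).toMonoidHom = T := by
    intro g
    by_contra hne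
    set U := T.map (MulAut.conj g).toMonoidHom
    have hU : U ∈ F.s := F.conj_mem g T hT
    have hd : p ∣ Nat.card U := by
      rw [card_map_of_injective (MulAut.conj g).injective]
      obtain ⟨k, hk, hk'⟩ := (P.isPGroup'.to_le inf_le_left : IsPGroup p ↥((P : Subgroup G) ⊓ T)).nontrivial_iff_card.mp
        ((Subgroup.nontrivial_iff_ne_bot _).mpr hQ)
      exact (hk' ▸ dvd_pow_self p hk.ne').trans (card_dvd_of_le inf_le_right)
    obtain ⟨y, hy⟩ := exists_prime_orderOf_dvd_card' (G := U) p hd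
    have hyo : orderOf (y : G) = p := (Subgroup.orderOf_coe y).trans hy
    -- conjugate it into `P` inside `N`
    obtain ⟨Q, hQ'⟩ := Thompson.exists_sylow_inf_normal P N
    obtain ⟨R, hR⟩ := IsPGroup.exists_le_sylow (G := N) (p := p) (P := zpowers ⟨(y : G), F.le U hU y.2⟩)
      (IsPGroup.of_card (n := 1) (by rw [Nat.card_zpowers, orderOf_mk, hyo, pow_one]))
    obtain ⟨n, hn⟩ := MulAction.exists_smul_eq N R Q
    have hmem : (n : G) * y * (n : G)⁻¹ ∈ (Q : Subgroup N).map N.subtype := by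
      refine ⟨n * ⟨(y : G), F.le U hU y.2⟩ * n⁻¹, ?_, rfl⟩
      rw [← hn, Sylow.coe_subgroup_smul]
      exact ⟨_, hR (mem_zpowers _), rfl⟩
    rw [hQ'] at hmem
    have hU' : (n : G) * y * (n : G)⁻¹ ∈ U := (mem_normalizer_iff.mp (le_normalizer_factor F hU n.2) _).mp y.2
    have h1 : (n : G) * y * (n : G)⁻¹ ∈ (P : Subgroup G) ⊓ U := ⟨hmem.1, hU'⟩
    rw [hno U hU hne, mem_bot, conj_eq_one_iff] at h1
    rw [h1, orderOf_one] at hyo
    exact hp.out.one_lt.ne hyo
  have hTn : T.Normal := ⟨fun t ht g => by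
    have := mem_map_of_mem (MulAut.conj g).toMonoidHom ht
    rwa [hconj g] at this⟩
  have hTN : T = N := (hmin T hTn (F.le T hT)).resolve_left hTne
  refine hcore ⟨N, ‹N.Normal›, ?_, ?_, hC⟩
  · rw [← hTN]; exact F.simple T hT
  · rw [← hTN]; exact F.nonabelian T hT

variable (hidx : ⁅(P : Subgroup G), (P : Subgroup G)⁆.relIndex P = p ^ 2)
  (hP' : ⁅(P : Subgroup G), (P : Subgroup G)⁆ ≠ ⊥) (hM : ¬ (P : Subgroup G) ⊓ N ≤ ⁅(P : Subgroup G), (P : Subgroup G)⁆)
include hidx hP' hM

/-- No factor meeting `P` is normalized by `P` unless it is the only one. -/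
theorem not_normalizes {T : Subgroup G} (hT : T ∈ F.s) (hQ : (P : Subgroup G) ⊓ T ≠ ⊥)
    (hR : (P : Subgroup G) ⊓ N ⊓ centralizer (T : Set G) ≠ ⊥)
    (hn : (P : Subgroup G) ≤ normalizer (T : Set G)) : False := by
  set D := ⁅(P : Subgroup G), (P : Subgroup G)⁆ with hD
  set X := (P : Subgroup G) ⊓ T
  set Y := (P : Subgroup G) ⊓ N ⊓ centralizer (T : Set G)
  have hNn : (P : Subgroup G) ≤ normalizer (N : Set G) := by rw [normalizer_eq_top]; exact le_top
  have hXn : (P : Subgroup G) ≤ normalizer (X : Set G) :=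
    (le_inf le_normalizer hn).trans inf_normalizer_le_normalizer_inf
  have hCn : (P : Subgroup G) ≤ normalizer (centralizer (T : Set G) : Set G) := fun g hg => by
    have key : ∀ g ∈ normalizer (T : Set G), ∀ c ∈ centralizer (T : Set G), g * c * g⁻¹ ∈ centralizer (T : Set G) := by
      intro g hg c hc
      refine mem_centralizer_iff.mpr fun w hw => ?_
      have h1 : g⁻¹ * w * g ∈ T := by
        have := (mem_normalizer_iff.mp (inv_mem hg) w).mp hw
        rwa [inv_inv] at this
      calc w * (g * c * g⁻¹) = g * ((g⁻¹ * w * g) * c) * g⁻¹ := by group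
        _ = g * (c * (g⁻¹ * w * g)) * g⁻¹ := by rw [mem_centralizer_iff.mp hc _ h1]
        _ = _ := by group
    refine mem_normalizer_iff.mpr fun c => ⟨key g (hn hg) c, fun hc => ?_⟩
    have := key g⁻¹ (inv_mem (hn hg)) _ hc
    rwa [show g⁻¹ * (g * c * g⁻¹) * g⁻¹⁻¹ = c by group] at this
  have hMn : (P : Subgroup G) ≤ normalizer (((P : Subgroup G) ⊓ N : Subgroup G) : Set G) :=
    (le_inf le_normalizer hNn).trans inf_normalizer_le_normalizer_inf
  have hYn : (P : Subgroup G) ≤ normalizer (Y : Set G) :=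
    (le_inf hMn hCn).trans inf_normalizer_le_normalizer_inf
  have hM' := inf_eq_sup F P hT
  have hXY : X ⊓ Y = ⊥ := inf_ne_bot_of_commute_ne F P hT
  have hYX : Y ≤ centralizer (X : Set G) := fun y hy => mem_centralizer_iff.mpr fun x hx =>
    mem_centralizer_iff.mp hy.2 x hx.2
  -- neither part lies in the derived subgroup
  have key : ∀ A B : Subgroup G, A ≤ P → B ≤ P → (P : Subgroup G) ⊓ N = A ⊔ B → A ⊓ B = ⊥ →
      B ≤ centralizer (A : Set G) → (P : Subgroup G) ≤ normalizer (A : Set G) →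
      (P : Subgroup G) ≤ normalizer (B : Set G) → A ≠ ⊥ → ¬ A ≤ D := by
    intro A B hA hB hAB hAB1 hBA hAn hBn hA0 hAD
    have h1 : D ≤ ⁅A, (P : Subgroup G)⁆ ⊔ ⁅B, (P : Subgroup G)⁆ := by
      refine (derived_le P.isPGroup' hidx inf_le_left hMn hM).trans ?_
      rw [hAB, commutator_le]
      intro z hz g hg
      obtain ⟨a, ha, b, hb, rfl⟩ := (Coprime.mem_sup_iff (hB.trans hAn)).mp hz
      rw [commutatorElement_mul_left_eq_conj_mul]
      have hb' : ⁅b, g⁆ ∈ ⁅B, (P : Subgroup G)⁆ := commutator_mem_commutator hb hg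
      refine mul_mem (mem_sup_right ?_) (mem_sup_left (commutator_mem_commutator ha hg))
      exact (mem_normalizer_iff.mp (normalizer_commutator_ge_right B (P : Subgroup G) (hA ha)) _).mp hb'
    have h2 : ∀ x ∈ A, x ∈ ⁅A, (P : Subgroup G)⁆ := by
      intro x hx
      have hc : ⁅B, (P : Subgroup G)⁆ ≤ B := Coprime.commutator_le_left_of_normalizer hBn
      have hn' : ⁅B, (P : Subgroup G)⁆ ≤ normalizer ((⁅A, (P : Subgroup G)⁆ : Subgroup G) : Set G) :=
        (hc.trans hB).trans (normalizer_commutator_ge_right A _)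
      obtain ⟨a, ha, b, hb, hab⟩ := (Coprime.mem_sup_iff hn').mp (h1 (hAD hx))
      have hbA : b ∈ A ⊓ B := mem_inf.mpr ⟨by
        have ha' : a ∈ A := Coprime.commutator_le_left_of_normalizer hAn ha
        have : b = a⁻¹ * x := by rw [← hab, inv_mul_cancel_left]
        rw [this]; exact mul_mem (inv_mem ha') hx, hc hb⟩
      rw [hAB1, mem_bot] at hbA
      rwa [← hab, hbA, mul_one]
    exact (Coprime.commutator_lt_of_isPGroup (P.isPGroup'.to_le hA) P.isPGroup' hAn hA0).not_ge h2
  exact hP' (derived_eq_bot_of_two P.isPGroup' hidx inf_le_left (inf_le_left.trans inf_le_left) hXn hYn hXY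
    (key X Y inf_le_left (inf_le_left.trans inf_le_left) hM' hXY hYX hXn hYn hQ)
    (key Y X (inf_le_left.trans inf_le_left) inf_le_left (hM'.trans (sup_comm _ _))
      ((inf_comm _ _).trans hXY) (le_centralizer_iff.mp hYX) hYn hXn hR))

/-- Some element of `P` lies outside `N` and generates `P` over `P ⊓ N`; the index is `p`. -/
theorem exists_outside (hfull : ¬ (P : Subgroup G) ≤ N) :
    ∃ c ∈ (P : Subgroup G), c ∉ N ∧ ((P : Subgroup G) ⊓ N) ⊔ zpowers c = P ∧ c ^ p ∈ N ∧
      ((P : Subgroup G) ⊓ N).relIndex P = p ∧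
      ⁅(P : Subgroup G), (P : Subgroup G)⁆.relIndex ((P : Subgroup G) ⊓ N) = p := by
  have hDN : ⁅(P : Subgroup G), (P : Subgroup G)⁆ ≤ (P : Subgroup G) ⊓ N := by
    have hn : (P : Subgroup G) ≤ normalizer (((P : Subgroup G) ⊓ N : Subgroup G) : Set G) :=
      (le_inf le_normalizer (by rw [normalizer_eq_top]; exact le_top)).trans inf_normalizer_le_normalizer_inf
    exact (derived_le P.isPGroup' hidx inf_le_left hn hM).trans (Coprime.commutator_le_left_of_normalizer hn)
  obtain ⟨c, hc, hsup⟩ := exists_supplement P.isPGroup' hidx inf_le_left hM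
  have hcN : c ∉ N := fun h => hfull (hsup ▸ sup_le inf_le_right (zpowers_le.mpr h))
  have h1 := relIndex_mul_relIndex _ _ _ hDN (inf_le_left : (P : Subgroup G) ⊓ N ≤ P)
  rw [hidx] at h1
  obtain ⟨i, -, hi⟩ := (Nat.dvd_prime_pow hp.out).mp (Dvd.intro _ h1)
  obtain ⟨j, -, hj⟩ := (Nat.dvd_prime_pow hp.out).mp (Dvd.intro_left _ h1)
  rw [hi, hj, ← pow_add] at h1
  have hij := Nat.pow_right_injective hp.out.two_le h1
  have hi0 : i ≠ 0 := fun e => hM (relIndex_eq_one.mp (by rw [hi, e, pow_zero]))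
  have hj0 : j ≠ 0 := fun e => hfull ((relIndex_eq_one.mp (by rw [hj, e, pow_zero])).trans inf_le_right)
  have hi1 : i = 1 := by omega
  have hj1 : j = 1 := by omega
  subst hi1 hj1
  rw [pow_one] at hi hj
  refine ⟨c, hc, hcN, hsup, ?_, hj, hi⟩
  have hn : (((P : Subgroup G) ⊓ N).subgroupOf P).Normal := normal_subgroupOf_of_le_normalizer
    ((le_inf le_normalizer (by rw [normalizer_eq_top]; exact le_top)).trans inf_normalizer_le_normalizer_inf)
  have := pow_index_mem (((P : Subgroup G) ⊓ N).subgroupOf P) (⟨c, hc⟩ : P)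
  rw [show (((P : Subgroup G) ⊓ N).subgroupOf P).index = p from hj] at this
  simpa using (mem_subgroupOf.mp this).2

/-- Every factor has abelian Sylow subgroup. -/
theorem factor_commute (hcore : ¬ ∃ S : Subgroup G, S.Normal ∧ IsSimpleGroup S ∧ ¬ IsMulCommutative S ∧
      centralizer (S : Set G) = ⊥)
    (hmin : ∀ M : Subgroup G, M.Normal → M ≤ N → M = ⊥ ∨ M = N) (hC : centralizer (N : Set G) = ⊥)
    {T : Subgroup G} (hT : T ∈ F.s) {a b : G} (ha : a ∈ (P : Subgroup G) ⊓ T)
    (hb : b ∈ (P : Subgroup G) ⊓ T) : Commute a b := by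
  classical
  by_cases hQ : (P : Subgroup G) ⊓ T = ⊥
  · rw [hQ, mem_bot] at ha; rw [ha]; exact Commute.one_left b
  obtain ⟨U, hU, hUT, hQU⟩ := exists_other F P hcore hmin hC hT hQ
  have hR : (P : Subgroup G) ⊓ N ⊓ centralizer (T : Set G) ≠ ⊥ := fun h => hQU (le_bot_iff.mp (h ▸
    le_inf (inf_le_inf_left _ (F.le U hU)) (inf_le_right.trans (F.commute T hT U hU hUT.symm))))
  have hfull : ¬ (P : Subgroup G) ≤ N := fun h =>
    (not_normalizes F P hidx hP' hM hT hQ hR (h.trans (le_normalizer_factor F hT))).elim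
  obtain ⟨c, hc, hcN, hsup, hcp, -, hrel⟩ := exists_outside P hidx hP' hM hfull
  set M := (P : Subgroup G) ⊓ N with hMdef
  have hcT : ∀ i, 0 < i → i < p → c ^ i ∉ normalizer (T : Set G) := by
    intro i hi hip hci
    have hco : i.Coprime p :=
      (hp.out.coprime_iff_not_dvd.mpr fun hd => absurd (Nat.le_of_dvd hi hd) (not_le.mpr hip)).symm
    obtain ⟨a', ha'⟩ : ∃ z : ℤ, ∃ w : ℤ, (z * i + w * p : ℤ) = 1 :=
      ⟨Nat.gcdA i p, Nat.gcdB i p, by
        have := Nat.gcd_eq_gcd_ab i p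
        rw [hco.gcd_eq_one] at this
        push_cast at this
        linarith⟩
    obtain ⟨b', hb'⟩ := ha'
    have hcN' : c ^ p ∈ normalizer (T : Set G) := le_normalizer_factor F hT hcp
    have hcT' : c ∈ normalizer (T : Set G) := by
      have h := mul_mem (zpow_mem hci a') (zpow_mem hcN' b')
      rwa [← zpow_natCast, ← zpow_natCast, ← zpow_mul, ← zpow_mul, ← zpow_add, mul_comm (i : ℤ), mul_comm (p : ℤ),
        hb', zpow_one] at h
    refine not_normalizes F P hidx hP' hM hT hQ hR ?_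
    rw [← hsup]
    exact sup_le (inf_le_right.trans (le_normalizer_factor F hT)) (zpowers_le.mpr hcT')
  set Q := (P : Subgroup G) ⊓ T with hQdef
  have hQM : Q ≤ M := inf_le_inf_left _ (F.le T hT)
  let π : M →* Q :=
    MonoidHom.mk' (fun m => ⟨comp F hT ⟨m, m.2.2⟩, comp_mem_sylow F P hT (m := ⟨m, m.2.2⟩) m.2.1,
        (comp F hT _).2⟩)
      (fun x y => Subtype.ext (congrArg (fun t : T => (t : G)) (map_mul (comp F hT) ⟨x, x.2.2⟩ ⟨y, y.2.2⟩)))
  have hnorm : (P : Subgroup G) ≤ normalizer (M : Set G) :=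
    (le_inf le_normalizer (by rw [normalizer_eq_top]; exact le_top)).trans inf_normalizer_le_normalizer_inf
  let σ : G → (M →* M) := fun g =>
    if hg : g ∈ normalizer (M : Set G) then (normalizerMonoidHom M ⟨g, hg⟩).toMonoidHom else MonoidHom.id M
  have hσ : ∀ g ∈ (P : Subgroup G), ∀ m : M, ((σ g m : M) : G) = g * m * g⁻¹ := fun g hg m => by
    simp only [σ, dif_pos (hnorm hg)]
    rfl
  let ab : M →* Abelianization Q := Abelianization.of.comp π
  let θ : M →* Abelianization Q := ∏ i ∈ Finset.range p, ab.comp (σ (c ^ i))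
  have hθ : ∀ m : M, θ m = ∏ i ∈ Finset.range p, ab (σ (c ^ i) m) := fun m => by
    simp only [θ, MonoidHom.finset_prod_apply, MonoidHom.comp_apply]
  have hcomm : ∀ (f : M →* Abelianization Q) (x y : M), f (x * y * x⁻¹) = f y := fun f x y => by
    rw [map_mul, map_mul, map_inv, mul_comm (f x), mul_inv_cancel_right]
  have hshift : ∀ m : M, θ (σ c m) = θ m := by
    intro m
    have e : ∀ i, σ (c ^ i) (σ c m) = σ (c ^ (i + 1)) m := fun i => Subtype.ext (by
      rw [hσ _ (pow_mem hc i), hσ _ hc, hσ _ (pow_mem hc _), pow_succ]; group)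
    have h0 : σ (c ^ 0) m = m := Subtype.ext (by rw [hσ _ (pow_mem hc 0)]; simp)
    have hlast : ab (σ (c ^ p) m) = ab m := by
      rw [show σ (c ^ p) m = ⟨c ^ p, pow_mem hc p, hcp⟩ * m * ⟨c ^ p, pow_mem hc p, hcp⟩⁻¹ from
        Subtype.ext (by rw [hσ _ (pow_mem hc p)]; rfl)]
      exact hcomm ab _ _
    rw [hθ, hθ, Finset.prod_congr rfl (fun i _ => by rw [e i])]
    have h1 := Finset.prod_range_succ' (fun i => ab (σ (c ^ i) m)) p
    have h2 := Finset.prod_range_succ (fun i => ab (σ (c ^ i) m)) p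
    rw [h2, hlast, h0] at h1
    exact (mul_right_cancel h1).symm
  have hinv : ∀ g ∈ (P : Subgroup G), ∀ m : M, θ (σ g m) = θ m := by
    intro g hg m
    have hg' : g ∈ M ⊔ zpowers c := hsup.ge hg
    obtain ⟨x, hx, u, hu, rfl⟩ := (Coprime.mem_sup_iff (zpowers_le.mpr (hnorm hc))).mp hg'
    obtain ⟨k, rfl⟩ := mem_zpowers_iff.mp hu
    obtain ⟨k', hk'⟩ := (IsOfFinOrder.mem_powers_iff_mem_zpowers (isOfFinOrder_of_finite c)).mpr
      (zpow_mem (mem_zpowers c) k)
    have hk'' : c ^ k' = c ^ k := hk'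
    have hgen : ∀ (j : ℕ) (m : M), θ (σ (c ^ j) m) = θ m := by
      intro j
      induction j with
      | zero => intro m; rw [show σ (c ^ 0) m = m from Subtype.ext (by rw [hσ _ (pow_mem hc 0)]; simp)]
      | succ j ih =>
        intro m
        rw [show σ (c ^ (j + 1)) m = σ c (σ (c ^ j) m) from Subtype.ext (by
          rw [hσ _ (pow_mem hc _), hσ _ hc, hσ _ (pow_mem hc _), pow_succ']; group), hshift, ih]
    rw [show σ (x * c ^ k) m = ⟨x, hx⟩ * σ (c ^ k') m * (⟨x, hx⟩ : M)⁻¹ from Subtype.ext (by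
      rw [hσ _ (mul_mem hx.1 (zpow_mem hc k))]
      rw [Subgroup.coe_mul, Subgroup.coe_mul, hσ _ (pow_mem hc k'), hk'']
      simp only [InvMemClass.coe_inv]
      group), hcomm, hgen]
  -- `θ` restricted to `Q` is the canonical map
  have hrestrict : ∀ q : Q, θ ⟨q, hQM q.2⟩ = Abelianization.of q := by
    intro q
    rw [hθ, Finset.prod_eq_single 0]
    · have e : π (σ (c ^ 0) ⟨q, hQM q.2⟩) = q := by
        refine Subtype.ext ?_
        have h0 : σ (c ^ 0) ⟨q, hQM q.2⟩ = ⟨q, hQM q.2⟩ := Subtype.ext (by rw [hσ _ (pow_mem hc 0)]; simp)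
        rw [h0]
        exact comp_of_mem F hT (m := ⟨q, (hQM q.2).2⟩) q.2.2
      show Abelianization.of (π _) = _
      rw [e]
    · intro i hi hi0
      have hU' : T.map (MulAut.conj (c ^ i)).toMonoidHom ∈ F.s := F.conj_mem _ T hT
      have hne : T ≠ T.map (MulAut.conj (c ^ i)).toMonoidHom := fun e =>
        hcT i (Nat.pos_of_ne_zero hi0) (Finset.mem_range.mp hi) (by
          refine mem_normalizer_iff.mpr fun t => ⟨fun ht => ?_, fun ht => ?_⟩
          · rw [e]; exact mem_map_of_mem _ ht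
          · rw [e] at ht
            obtain ⟨t', ht', he⟩ := ht
            exact (MulAut.conj (c ^ i)).injective he ▸ ht')
      have e : π (σ (c ^ i) ⟨q, hQM q.2⟩) = 1 := Subtype.ext (congrArg (fun t : T => (t : G))
        (comp_of_commute F hT (m := ⟨_, (σ (c ^ i) ⟨q, hQM q.2⟩).2.2⟩) (by
          refine F.commute T hT _ hU' hne ?_
          show ((σ (c ^ i) ⟨q, hQM q.2⟩ : M) : G) ∈ _
          rw [hσ _ (pow_mem hc i)]
          exact ⟨q, q.2.2, rfl⟩)))
      show Abelianization.of (π _) = 1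
      rw [e, map_one]
    · exact fun h => absurd (Finset.mem_range.mpr hp.out.pos) h
  -- the derived subgroup of `P` dies under `θ`
  set D := ⁅(P : Subgroup G), (P : Subgroup G)⁆ with hD
  have hker : D.subgroupOf M ≤ θ.ker := by
    intro d hd
    have hle : D ≤ ⁅M, (P : Subgroup G)⁆ := derived_le P.isPGroup' hidx inf_le_left hnorm hM
    have : ⁅M, (P : Subgroup G)⁆ ≤ θ.ker.map M.subtype := by
      rw [commutator_le]
      intro x hx g hg
      refine ⟨⟨x, hx⟩ * σ g (⟨x, hx⟩⁻¹), ?_, ?_⟩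
      · show θ _ = 1
        rw [map_mul, hinv g hg, map_inv, mul_inv_cancel]
      · rw [coe_subtype, Subgroup.coe_mul, hσ g hg, commutatorElement_def, InvMemClass.coe_inv]
        group
    obtain ⟨d', hd', hdd⟩ := this (hle hd)
    exact (Subtype.ext hdd : d' = d) ▸ hd'
  have hcard : Nat.card (Abelianization Q) ≤ p := by
    have hsurj : Function.Surjective θ := fun z => by
      obtain ⟨q, rfl⟩ := QuotientGroup.mk_surjective z
      exact ⟨⟨q, hQM q.2⟩, hrestrict q⟩
    rw [← Subgroup.card_top (G := Abelianization Q), ← MonoidHom.range_eq_top.mpr hsurj, ← index_ker]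
    exact (Nat.le_of_dvd (by rw [← relIndex, hrel]; exact hp.out.pos) (index_dvd_of_le hker)).trans hrel.le
  have hQ' : ⁅Q, Q⁆.relIndex Q ≤ p := by
    refine le_trans (le_of_eq ?_) hcard
    rw [relIndex, index]
    congr 1
    show _ = (Q ⧸ commutator Q)
    have : ⁅Q, Q⁆.subgroupOf Q = commutator Q := by
      rw [← map_subtype_commutator, subgroupOf, comap_map_eq_self_of_injective Q.subtype_injective]
    rw [this]
  have habs := derived_eq_bot_of_relIndex_le (P.isPGroup'.to_le inf_le_left) hQ'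
  exact commutatorElement_eq_one_iff_commute.mp (mem_bot.mp (habs ▸ commutator_mem_commutator ha hb))

include F in
/-- `P ⊓ N` is abelian. -/
theorem inf_commute (hcore : ¬ ∃ S : Subgroup G, S.Normal ∧ IsSimpleGroup S ∧ ¬ IsMulCommutative S ∧
      centralizer (S : Set G) = ⊥)
    (hmin : ∀ M : Subgroup G, M.Normal → M ≤ N → M = ⊥ ∨ M = N) (hC : centralizer (N : Set G) = ⊥)
    {a b : G} (ha : a ∈ (P : Subgroup G) ⊓ N) (hb : b ∈ (P : Subgroup G) ⊓ N) : Commute a b := by
  classical
  rw [← commutatorElement_eq_one_iff_commute]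
  have hz : ⁅a, b⁆ ∈ centralizer (N : Set G) := by
    rw [← F.sup_eq]
    have : F.s.sup id ≤ centralizer ({⁅a, b⁆} : Set G) := Finset.sup_le fun T hT => by
      have h1 : comp F hT ⁅(⟨a, ha.2⟩ : N), ⟨b, hb.2⟩⁆ = 1 := by
        rw [map_commutatorElement, commutatorElement_eq_one_iff_commute]
        exact Subtype.ext (factor_commute F P hidx hP' hM hcore hmin hC hT
          (a := comp F hT ⟨a, ha.2⟩) (b := comp F hT ⟨b, hb.2⟩)
          ⟨comp_mem_sylow F P hT (m := ⟨a, ha.2⟩) ha.1, (comp F hT _).2⟩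
          ⟨comp_mem_sylow F P hT (m := ⟨b, hb.2⟩) hb.1, (comp F hT _).2⟩).eq
      have h2 := comp_spec F hT ⁅(⟨a, ha.2⟩ : N), ⟨b, hb.2⟩⁆
      rw [h1, OneMemClass.coe_one, inv_one, one_mul] at h2
      intro t ht
      rw [mem_centralizer_singleton_iff]
      have := mem_centralizer_iff.mp h2 t ht
      simpa [commutatorElement_def] using this
    exact mem_centralizer_iff.mpr fun t ht => mem_centralizer_singleton_iff.mp (this ht)
  rw [hC, mem_bot] at hz
  exact hz

end Cfsg.Agent.H25.SmallAbelianization
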