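import Cfsg.Agent.H25.SmallAbelianization.Factors
import Mathlib.Data.Nat.Factorization.Basic

/-!
`[P : P'] = p ^ 2` and the centralizers of `p`-elements, for groups that are not almost simple.
-/

set_option autoImplicit false
set_option linter.unusedSectionVars false

namespace Cfsg.Agent.H25.SmallAbelianization

open Subgroup
open scoped commutatorElement Pointwise

variable {G : Type*} [Group G] [Finite G] {p : ℕ} [hp : Fact p.Prime]

/-- A conjugate in `P` whose centralizer in `P` is a Sylow subgroup of its centralizer in `G`. -/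
theorem exists_conj_card (P : Sylow p G) {x : G} (hx : ∃ k : ℕ, orderOf x = p ^ k) :
    ∃ g : G, g * x * g⁻¹ ∈ (P : Subgroup G) ∧
      Nat.card ↥((P : Subgroup G) ⊓ centralizer {g * x * g⁻¹}) =
        p ^ (Nat.card (centralizer ({x} : Set G))).factorization p := by
  obtain ⟨k, hk⟩ := hx
  set C := centralizer ({x} : Set G) with hC
  have hxC : x ∈ C := mem_centralizer_singleton_iff.mpr rfl
  obtain ⟨R, hR⟩ := IsPGroup.exists_le_sylow (G := C) (p := p) (P := zpowers ⟨x, hxC⟩)
    (IsPGroup.of_card (n := k) (by rw [Nat.card_zpowers, orderOf_mk, hk]))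
  obtain ⟨Q, hQ⟩ := (R.isPGroup'.map C.subtype).exists_le_sylow
  obtain ⟨g, hg⟩ := MulAction.exists_smul_eq G Q P
  have hconj : ∀ r ∈ (R : Subgroup C).map C.subtype, g * r * g⁻¹ ∈ (P : Subgroup G) := fun r hr => by
    rw [← hg, Sylow.coe_subgroup_smul]
    exact ⟨r, hQ hr, rfl⟩
  refine ⟨g, hconj x ⟨⟨x, hxC⟩, hR (mem_zpowers _), rfl⟩, ?_⟩
  set D := (P : Subgroup G) ⊓ centralizer {g * x * g⁻¹} with hD
  have hle : ((R : Subgroup C).map C.subtype).map (MulAut.conj g).toMonoidHom ≤ D := by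
    rintro _ ⟨r, hr, rfl⟩
    refine ⟨hconj r hr, mem_centralizer_singleton_iff.mpr ?_⟩
    have hrC : r * x = x * r := mem_centralizer_singleton_iff.mp (map_subtype_le _ hr)
    show g * r * g⁻¹ * (g * x * g⁻¹) = g * x * g⁻¹ * (g * r * g⁻¹)
    calc g * r * g⁻¹ * (g * x * g⁻¹) = g * (r * x) * g⁻¹ := by group
      _ = g * (x * r) * g⁻¹ := by rw [hrC]
      _ = _ := by group
  have hRcard : Nat.card ↥(((R : Subgroup C).map C.subtype).map (MulAut.conj g).toMonoidHom) =
      p ^ (Nat.card C).factorization p := by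
    rw [card_map_of_injective (MulAut.conj g).injective, card_map_of_injective C.subtype_injective,
      R.card_eq_multiplicity]
  obtain ⟨j, hj⟩ := IsPGroup.iff_card.mp (P.isPGroup'.to_le (inf_le_left : D ≤ P))
  have hDC : Nat.card D ∣ Nat.card C := by
    have h1 : D.map (MulAut.conj g⁻¹).toMonoidHom ≤ C := by
      rintro _ ⟨d, hd, rfl⟩
      refine mem_centralizer_singleton_iff.mpr ?_
      have hdc : d * (g * x * g⁻¹) = g * x * g⁻¹ * d := mem_centralizer_singleton_iff.mp hd.2
      show g⁻¹ * d * g⁻¹⁻¹ * x = x * (g⁻¹ * d * g⁻¹⁻¹)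
      calc g⁻¹ * d * g⁻¹⁻¹ * x = g⁻¹ * (d * (g * x * g⁻¹)) * g := by group
        _ = g⁻¹ * (g * x * g⁻¹ * d) * g := by rw [hdc]
        _ = _ := by group
    have h2 := card_dvd_of_le h1
    rwa [card_map_of_injective (MulAut.conj g⁻¹).injective] at h2
  refine Nat.dvd_antisymm ?_ (hRcard ▸ card_dvd_of_le hle)
  rw [hj] at hDC ⊢
  exact pow_dvd_pow p ((hp.out.pow_dvd_iff_le_factorization Nat.card_pos.ne').mp hDC)

theorem card_sylow_ge (P : Sylow p G) (hbig : p ^ 2 ∣ Nat.card G) : p ^ 2 ≤ Nat.card P := by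
  rw [P.card_eq_multiplicity]
  exact Nat.pow_le_pow_right hp.out.pos ((hp.out.pow_dvd_iff_le_factorization Nat.card_pos.ne').mp hbig)

/-- A `p`-element with centralizer of `p`-part `p ^ 2` gives `[P : P'] = p ^ 2`. -/
theorem relIndex_eq_of_exists (P : Sylow p G) (hbig : p ^ 2 ∣ Nat.card G) {x : G}
    (hx : ∃ k : ℕ, orderOf x = p ^ k)
    (hC : (Nat.card (centralizer ({x} : Set G))).factorization p = 2) :
    ⁅(P : Subgroup G), (P : Subgroup G)⁆.relIndex P = p ^ 2 := by
  obtain ⟨g, hgP, hcard⟩ := exists_conj_card P hx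
  rw [hC] at hcard
  set D := ⁅(P : Subgroup G), (P : Subgroup G)⁆ with hD
  have h1 := card_le_centralizer_mul (P : Subgroup G) hgP
  rw [hcard] at h1
  have hcd : Nat.card D * D.relIndex P = Nat.card P := by
    rw [← relIndex_bot_left, ← relIndex_bot_left]
    exact relIndex_mul_relIndex _ _ _ bot_le (commutator_le_self _)
  have hle : D.relIndex P ≤ p ^ 2 := by
    have hpos : 0 < Nat.card D := Nat.card_pos
    rw [← hcd] at h1
    exact Nat.le_of_mul_le_mul_left (h1.trans (le_of_eq (mul_comm _ _))) hpos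
  obtain ⟨j, hj⟩ := IsPGroup.iff_card.mp P.isPGroup'
  obtain ⟨i, -, hi⟩ := (Nat.dvd_prime_pow hp.out).mp (hj ▸ hcd ▸ Dvd.intro_left _ rfl : D.relIndex P ∣ p ^ j)
  rw [hi] at hle ⊢
  have hi2 : i ≤ 2 := (Nat.pow_le_pow_iff_right hp.out.one_lt).mp hle
  rcases eq_or_ne i 2 with rfl | hne
  · rfl
  exfalso
  have hip : p ^ i ≤ p := by
    calc p ^ i ≤ p ^ 1 := Nat.pow_le_pow_right hp.out.pos (by omega)
      _ = p := pow_one p
  have hbot : D = ⊥ := derived_eq_bot_of_relIndex_le P.isPGroup' (hi ▸ hip)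
  have h2 := card_sylow_ge P hbig
  rw [← hcd, hbot, card_bot, one_mul, ← hbot, hi] at h2
  have := hp.out.one_lt
  nlinarith

/-- A minimal normal subgroup meets `P` outside `P'`. -/
theorem not_le_derived (P : Sylow p G) (hcore : Cfsg.pPrimeCore p G = ⊥)
    (hcore' : (⁅(P : Subgroup G), (P : Subgroup G)⁆).normalCore = ⊥) {N : Subgroup G} [hN : N.Normal]
    (hne : N ≠ ⊥) (hmin : ∀ K : Subgroup G, K.Normal → K ≤ N → K = ⊥ ∨ K = N) :
    ¬ (P : Subgroup G) ⊓ N ≤ ⁅(P : Subgroup G), (P : Subgroup G)⁆ := by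
  intro hle
  have hfrat : N ⊓ (P : Subgroup G) ≤ (frattini P).map (P : Subgroup G).subtype := by
    rw [inf_comm]
    refine hle.trans ?_
    rw [← map_subtype_commutator]
    exact map_mono (PGroups.commutator_le_frattini P.isPGroup')
  obtain ⟨P0, K, hKn, hK⟩ := S0081.result P N hfrat
  have hKcop : (Nat.card K).Coprime p := by
    have h1 := hK.index_eq_card
    rw [Nat.coprime_comm, hp.out.coprime_iff_not_dvd]
    intro hd
    refine P0.not_dvd_index ?_
    rw [h1]
    exact hd
  have hKbot : K = ⊥ := by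
    have h1 : K ≤ Cfsg.pPrimeCore p N := le_sSup ⟨hKn, hKcop⟩
    have h2 : (Cfsg.pPrimeCore p N).map N.subtype ≤ Cfsg.pPrimeCore p G := Cores.le_pPrimeCore (by
      rw [card_map_of_injective N.subtype_injective]
      exact Cores.coprime_card_pPrimeCore)
    rw [hcore] at h2
    have h3 := le_bot_iff.mp ((map_mono h1).trans h2)
    rwa [map_eq_bot_iff_of_injective _ N.subtype_injective] at h3
  have hNp : IsPGroup p N := by
    have : (P0 : Subgroup N) = ⊤ := by
      have := hK.symm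
      rw [hKbot] at this
      exact isComplement'_bot_right.mp this
    exact (P0.isPGroup'.of_equiv ((MulEquiv.subgroupCongr this).trans Subgroup.topEquiv))
  obtain ⟨Q, hQ⟩ := hNp.exists_le_sylow
  obtain ⟨g, hg⟩ := MulAction.exists_smul_eq G Q P
  have hNP : N ≤ (P : Subgroup G) := fun x hx => by
    rw [← hg, Sylow.coe_subgroup_smul]
    exact ⟨g⁻¹ * x * g, hQ (by have := hN.conj_mem x hx g⁻¹; rwa [inv_inv] at this), by
      show g * (g⁻¹ * x * g) * g⁻¹ = x
      group⟩
  have h4 : N ≤ (⁅(P : Subgroup G), (P : Subgroup G)⁆).normalCore :=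
    normal_le_normalCore.mpr (fun x hx => hle ⟨hNP hx, hx⟩)
  rw [hcore', le_bot_iff] at h4
  exact hne h4

/-- The centralizer in `P` of an element outside an abelian `M` of index `p`. -/
theorem card_centralizer_eq (P : Sylow p G) {M : Subgroup G} (hMP : M ≤ (P : Subgroup G))
    (hMn : (P : Subgroup G) ≤ normalizer (M : Set G)) (hMc : ∀ a ∈ M, ∀ b ∈ M, Commute a b)
    (hidx : ⁅(P : Subgroup G), (P : Subgroup G)⁆.relIndex P = p ^ 2)
    (hM : ¬ M ≤ ⁅(P : Subgroup G), (P : Subgroup G)⁆) (hMi : M.relIndex P = p)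
    (hDM : ⁅(P : Subgroup G), (P : Subgroup G)⁆.relIndex M = p) {y : G} (hy : y ∈ (P : Subgroup G))
    (hyM : y ∉ M) : Nat.card ↥((P : Subgroup G) ⊓ centralizer {y}) = p ^ 2 := by
  set D := ⁅(P : Subgroup G), (P : Subgroup G)⁆ with hD
  have hgen : M ⊔ zpowers y = P := by
    have hle : M ⊔ zpowers y ≤ P := sup_le hMP (zpowers_le.mpr hy)
    have h := relIndex_mul_relIndex _ _ _ (le_sup_left : M ≤ M ⊔ zpowers y) hle
    rw [hMi] at h
    rcases (Nat.dvd_prime hp.out).mp (Dvd.intro _ h) with h1 | h1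
    · exact absurd (relIndex_eq_one.mp h1 (mem_sup_right (mem_zpowers y))) hyM
    · rw [h1] at h
      exact le_antisymm hle (relIndex_eq_one.mp ((mul_right_eq_self₀.mp h).resolve_right hp.out.ne_zero))
  have hyn : y ∈ normalizer (M : Set G) := hMn hy
  have hmem : ∀ m ∈ M, ⁅m, y⁆ ∈ M := fun m hm => by
    rw [commutatorElement_def, show m * y * m⁻¹ * y⁻¹ = m * (y * m⁻¹ * y⁻¹) by group]
    exact mul_mem hm ((mem_normalizer_iff.mp hyn _).mp (inv_mem hm))
  let f : M →* M := MonoidHom.mk' (fun m => ⟨⁅(m : G), y⁆, hmem m m.2⟩) (fun a b => Subtype.ext (by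
    show ⁅(a : G) * b, y⁆ = ⁅(a : G), y⁆ * ⁅(b : G), y⁆
    rw [commutatorElement_mul_left_eq_conj_mul, (hMc a a.2 _ (hmem b b.2)).eq, mul_inv_cancel_right]
    exact (hMc _ (hmem b b.2) _ (hmem a a.2)).eq))
  have hDR : D ≤ f.range.map M.subtype := by
    refine (derived_le P.isPGroup' hidx hMP hMn hM).trans (commutator_le.mpr fun m hm g hg => ?_)
    rw [← hgen] at hg
    obtain ⟨x, hx, u, hu, rfl⟩ := (Coprime.mem_sup_iff (zpowers_le.mpr hyn)).mp hg
    obtain ⟨k, hk⟩ := (IsOfFinOrder.mem_powers_iff_mem_zpowers (isOfFinOrder_of_finite y)).mpr hu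
    have hk' : y ^ k = u := hk
    subst hk'
    have key : ∀ k : ℕ, ∀ m ∈ M, ⁅m, y ^ k⁆ ∈ f.range.map M.subtype ∧ ⁅m, y ^ k⁆ ∈ M := by
      intro k
      induction k with
      | zero => intro m _; rw [pow_zero, commutatorElement_one_right]; exact ⟨one_mem _, one_mem _⟩
      | succ k ih =>
        intro m hm
        have hm' : y * m * y⁻¹ ∈ M := (mem_normalizer_iff.mp hyn m).mp hm
        have e : ⁅m, y ^ (k + 1)⁆ = ⁅m, y⁆ * ⁅y * m * y⁻¹, y ^ k⁆ := by
          rw [pow_succ']; simp only [commutatorElement_def]; group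
        rw [e]
        exact ⟨mul_mem ⟨_, ⟨⟨m, hm⟩, rfl⟩, rfl⟩ (ih _ hm').1, mul_mem (hmem m hm) (ih _ hm').2⟩
    have e : ⁅m, x * y ^ k⁆ = ⁅m, x⁆ * (x * ⁅m, y ^ k⁆ * x⁻¹) := by simp only [commutatorElement_def]; group
    rw [e, commutatorElement_eq_one_iff_commute.mpr (hMc m hm x hx), one_mul,
      (hMc x hx _ (key k m hm).2).eq, mul_inv_cancel_right]
    exact (key k m hm).1
  have hker : Nat.card ↥(M ⊓ centralizer {y}) ≤ p := by
    have h1 : Nat.card f.ker * Nat.card f.range = Nat.card M := by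
      rw [← index_ker]; exact f.ker.card_mul_index
    have h2 : Nat.card D ≤ Nat.card f.range := by
      rw [← card_map_of_injective (K := f.range) M.subtype_injective]
      exact Subgroup.card_le_of_le hDR
    have h3 : Nat.card D * p = Nat.card M := by
      rw [← hDM, ← relIndex_bot_left, ← relIndex_bot_left]
      exact relIndex_mul_relIndex _ _ _ bot_le (hDR.trans (map_subtype_le _))
    have h4 : Nat.card ↥(M ⊓ centralizer {y}) = Nat.card f.ker := by
      have e : f.ker.map M.subtype = M ⊓ centralizer {y} := by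
        ext z
        constructor
        · rintro ⟨w, hw, rfl⟩
          refine mem_inf.mpr ⟨w.2, mem_centralizer_singleton_iff.mpr ?_⟩
          exact commutatorElement_eq_one_iff_mul_comm.mp (congrArg Subtype.val hw)
        · intro hz
          exact ⟨⟨z, hz.1⟩, Subtype.ext (commutatorElement_eq_one_iff_mul_comm.mpr
            (mem_centralizer_singleton_iff.mp hz.2)), rfl⟩
      rw [← e, card_map_of_injective M.subtype_injective]
    rw [h4]
    have hpos : 0 < Nat.card D := Nat.card_pos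
    nlinarith
  set E := (P : Subgroup G) ⊓ centralizer {y}
  have hup : Nat.card E ≤ p ^ 2 := by
    have h1 : Nat.card ↥(M ⊓ E) * M.relIndex E = Nat.card E := by
      rw [← inf_relIndex_right M E, ← relIndex_bot_left, ← relIndex_bot_left]
      exact relIndex_mul_relIndex _ _ _ bot_le inf_le_right
    have h2 : M.relIndex E ≤ p := hMi ▸ relIndex_le_of_le_right inf_le_left (by rw [hMi]; exact hp.out.ne_zero)
    have h3 : Nat.card ↥(M ⊓ E) ≤ p := (Subgroup.card_le_of_le (inf_le_inf_left M inf_le_right)).trans hker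
    rw [← h1, sq]
    exact Nat.mul_le_mul h3 h2
  refine le_antisymm hup ?_
  have h1 := card_le_centralizer_mul (P : Subgroup G) hy
  have h2 : Nat.card D * p ^ 2 = Nat.card (P : Subgroup G) := by
    rw [← hidx, ← relIndex_bot_left, ← relIndex_bot_left]
    exact relIndex_mul_relIndex _ _ _ bot_le (commutator_le_self _)
  rw [← h2, mul_comm (Nat.card E)] at h1
  exact Nat.le_of_mul_le_mul_left h1 Nat.card_pos

/-- `[P : P'] = p ^ 2` produces a `p`-element with centralizer of `p`-part `p ^ 2`. -/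
theorem exists_of_relIndex_eq (P : Sylow p G) (hcore : Cfsg.pPrimeCore p G = ⊥)
    (hcore' : (⁅(P : Subgroup G), (P : Subgroup G)⁆).normalCore = ⊥)
    (hnas : ¬ ∃ S : Subgroup G, S.Normal ∧ IsSimpleGroup S ∧ ¬ IsMulCommutative S ∧ centralizer (S : Set G) = ⊥)
    (hidx : ⁅(P : Subgroup G), (P : Subgroup G)⁆.relIndex P = p ^ 2) :
    ∃ x : G, (∃ k : ℕ, orderOf x = p ^ k) ∧
      (Nat.card (centralizer ({x} : Set G))).factorization p = 2 := by
  set D := ⁅(P : Subgroup G), (P : Subgroup G)⁆ with hD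
  by_cases hD0 : D = ⊥
  · refine ⟨1, ⟨0, by rw [orderOf_one, pow_zero]⟩, ?_⟩
    rw [show centralizer ({1} : Set G) = ⊤ from eq_top_iff.mpr fun g _ => mem_centralizer_singleton_iff.mpr (by simp),
      card_top]
    have h := P.card_eq_multiplicity
    rw [hD0, relIndex_bot_left] at hidx
    exact Nat.pow_right_injective hp.out.two_le (h.symm.trans hidx)
  have hPne : (P : Subgroup G) ≠ ⊥ := fun h => hD0 (le_bot_iff.mp (h ▸ commutator_le_self (P : Subgroup G)))
  have : Nontrivial G := by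
    haveI := (P : Subgroup G).nontrivial_iff_ne_bot.mpr hPne
    exact Subtype.val_injective.nontrivial (f := fun x : (P : Subgroup G) => (x : G))
  obtain ⟨N, hNn, hN, -, hmin⟩ := Hall.exists_minimal_normal_le (⊤ : Subgroup G) top_ne_bot
  have hM := not_le_derived P hcore hcore' hN hmin
  have hMn : (P : Subgroup G) ≤ normalizer (((P : Subgroup G) ⊓ N : Subgroup G) : Set G) :=
    (le_inf le_normalizer (by rw [normalizer_eq_top]; exact le_top)).trans inf_normalizer_le_normalizer_inf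
  have hMc : ∀ a ∈ (P : Subgroup G) ⊓ N, ∀ b ∈ (P : Subgroup G) ⊓ N, Commute a b := by
    by_cases hNc : IsMulCommutative N
    · exact fun a ha b hb => congrArg Subtype.val (mul_comm' (⟨a, ha.2⟩ : N) ⟨b, hb.2⟩)
    intro a ha b hb
    have hC : centralizer (N : Set G) = ⊥ := by
      by_contra hC
      obtain ⟨K, hKn, hK, hKC, hKmin⟩ := Hall.exists_minimal_normal_le (centralizer (N : Set G)) hC
      have hKM := not_le_derived P hcore hcore' hK hKmin
      have hinf : K ⊓ N = ⊥ := by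
        rcases hmin (K ⊓ N) inferInstance inf_le_right with h | h
        · exact h
        · refine absurd ⟨⟨fun a b => Subtype.ext ?_⟩⟩ hNc
          exact mem_centralizer_iff.mp (hKC ((h ▸ inf_le_left : N ≤ K) b.2)) _ a.2
      have hKn' : (P : Subgroup G) ≤ normalizer (((P : Subgroup G) ⊓ K : Subgroup G) : Set G) :=
        (le_inf le_normalizer (by rw [normalizer_eq_top]; exact le_top)).trans inf_normalizer_le_normalizer_inf
      refine hD0 (derived_eq_bot_of_two P.isPGroup' hidx inf_le_left inf_le_left hKn' hMn ?_ hKM hM)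
      rw [eq_bot_iff, ← hinf]
      exact inf_le_inf inf_le_right inf_le_right
    obtain ⟨F⟩ := H96.exists_simpleFactors N hN hmin hNc
    exact inf_commute F P hidx hD0 hM hnas hmin hC ha hb
  have hfull : ¬ (P : Subgroup G) ≤ N := fun h => hD0 (by
    rw [hD, commutator_eq_bot_iff_le_centralizer]
    exact fun x hx => mem_centralizer_iff.mpr fun w hw => hMc w ⟨hw, h hw⟩ x ⟨hx, h hx⟩)
  obtain ⟨c, hc, hcN, -, -, hMi, hDM⟩ := exists_outside P hidx hD0 hM hfull
  obtain ⟨k, hk⟩ := IsPGroup.iff_orderOf.mp P.isPGroup' ⟨c, hc⟩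
  rw [orderOf_mk] at hk
  refine ⟨c, ⟨k, hk⟩, ?_⟩
  obtain ⟨g, hgP, hcard⟩ := exists_conj_card P ⟨k, hk⟩
  have hgN : g * c * g⁻¹ ∉ (P : Subgroup G) ⊓ N := fun h => hcN (by
    have := hNn.conj_mem _ h.2 g⁻¹
    rwa [show g⁻¹ * (g * c * g⁻¹) * g⁻¹⁻¹ = c by group] at this)
  rw [card_centralizer_eq P inf_le_left hMn hMc hidx hM hMi hDM hgP hgN] at hcard
  exact (Nat.pow_right_injective hp.out.two_le hcard).symm

end Cfsg.Agent.H25.SmallAbelianization
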